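import Cfsg.Agent.H815.Rs.Parts
import Cfsg.Agent.H485.Rg.MinusB
import Cfsg.Agent.H96.Rg.SixEven
import Cfsg.Agent.H955.Sp

/-!
# S3691, `O_8^±(2^f)`: the stabiliser of a nonsingular point (helper857)
-/

set_option autoImplicit false

namespace Cfsg.Agent.H857.Rs

open Module QuadraticMap Cfsg Cfsg.Geo Cfsg.Agent.LieClassical.OrthCore Cfsg.Agent.LieClassical.OrthTrans
  Cfsg.Agent.H884.El Cfsg.Agent.H955
open Cfsg.Agent.LieClassical.OrthFinite (glEquiv glEquiv_apply)
open Cfsg.Agent.H485.Rg (bar exists_compl card_bar finrank_compl nondeg_compl bar_polar)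
open Cfsg.Agent.H96.Rg (cj cj_apply exists_coord)
open scoped MatrixGroups Matrix

universe u v

/-- the 2-part of the group of all isometries of a symplectic space of dimension 6 over `𝔽_{2^f}` -/
theorem fac_isom {F : Type} [Field F] [Fintype F] {V : Type v} [AddCommGroup V] [Module F V] [FiniteDimensional F V]
    {Q : QuadraticForm F V} (hQ : Nondeg Q) (hV : finrank F V = 6) {f : ℕ} (hf : 1 ≤ f) (h2 : (2 : F) = 0)
    (hF : Fintype.card F = 2 ^ f) {H : Subgroup (V ≃ₗ[F] V)}
    (hH : ∀ x : V ≃ₗ[F] V, x ∈ H ↔ ∀ u v, polar Q (x u) (x v) = polar Q u v) :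
    (Nat.card H).factorization 2 = 9 * f := by
  obtain ⟨φ, hφ⟩ := exists_coord h2 hQ (n := 3) hV
  have hmap : H.map (cj φ).toMonoidHom = spGL 3 F := by
    ext g
    constructor
    · rintro ⟨y, hy, rfl⟩
      change cj φ y ∈ spGL 3 F
      rw [H931.mem_spGL_iff]
      intro a b
      rw [cj_apply, cj_apply, hφ, (hH y).1 hy, ← hφ, φ.apply_symm_apply, φ.apply_symm_apply]
    · intro hg
      refine ⟨(cj φ).symm g, ?_, (cj φ).apply_symm_apply g⟩
      rw [SetLike.mem_coe, hH]
      intro a b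
      rw [H931.mem_spGL_iff] at hg
      have h1 : ∀ w : V, φ ((cj φ).symm g w) = (g : Matrix (Fin 3 ⊕ Fin 3) (Fin 3 ⊕ Fin 3) F) *ᵥ φ w := by
        intro w
        have h3 := cj_apply φ ((cj φ).symm g) (φ w)
        rw [(cj φ).apply_symm_apply, φ.symm_apply_apply] at h3
        exact h3.symm
      rw [← hφ, h1, h1, hg, hφ]
  have hc : Nat.card H = Nat.card (spGL 3 F) := by
    rw [← hmap]
    exact (Subgroup.card_map_of_injective (cj φ).injective).symm
  have h3 := H955.card_spGL (m := 3) (F := F)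
  rw [Nat.card_eq_fintype_card (α := F), hF] at h3
  rw [hc, h3]
  have hq : 2 ∣ 2 ^ f := dvd_pow_self 2 (by omega)
  have hq1 : 1 < 2 ^ f := Nat.one_lt_two_pow (by omega)
  have hodd : ∀ k : ℕ, 1 ≤ k → ¬ 2 ∣ (2 ^ f) ^ k - 1 := by
    intro k hk h
    have h4 : 2 ∣ (2 ^ f) ^ k := dvd_pow hq (by omega)
    have h5 : 1 ≤ (2 ^ f) ^ k := Nat.one_le_pow _ _ (by omega)
    omega
  have hne : ∀ k : ℕ, 1 ≤ k → (2 ^ f) ^ k - 1 ≠ 0 := by
    intro k hk h
    apply hodd k hk
    rw [h]
    exact dvd_zero 2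
  rw [Finset.prod_range_succ, Finset.prod_range_succ, Finset.prod_range_succ, Finset.prod_range_zero, one_mul,
    Nat.factorization_mul (by positivity) (by
      refine mul_ne_zero (mul_ne_zero (hne _ (by norm_num)) (hne _ (by norm_num))) (hne _ (by norm_num))),
    Nat.factorization_mul (mul_ne_zero (hne _ (by norm_num)) (hne _ (by norm_num))) (hne _ (by norm_num)),
    Nat.factorization_mul (hne _ (by norm_num)) (hne _ (by norm_num)), ← pow_mul,
    Finsupp.add_apply, Finsupp.add_apply, Finsupp.add_apply, Nat.Prime.factorization_pow Nat.prime_two,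
    Nat.factorization_eq_zero_of_not_dvd (hodd _ (by norm_num)), Nat.factorization_eq_zero_of_not_dvd (hodd _ (by norm_num)),
    Nat.factorization_eq_zero_of_not_dvd (hodd _ (by norm_num)), Finsupp.single_eq_same]
  ring

/-- **(Pt)** -/
theorem pt : Cfsg.Agent.H815.Rs.Pt := by
  intro F _ _ f s t hf hF Q hQ v hv R hR hRv hs ht hsR htR
  have h2 : (2 : F) = 0 := by
    have h1 : ((Fintype.card F : ℕ) : F) = 0 := Nat.cast_card_eq_zero F
    rw [hF, Nat.cast_pow] at h1
    exact_mod_cast pow_eq_zero_iff (by omega) |>.1 h1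
  by_cases hlt : (Nat.card R).factorization 2 ≤ 6 * f + f.factorization 2
  · exact Or.inl hlt
  right
  push Not at hlt
  have hfin : finrank F (Fin 8 → F) = 8 := by rw [finrank_fintype_fun_eq_card, Fintype.card_fin]
  have hG : Good Q := LieClassical.OrthFinite.good_of_finite hQ (by rw [hfin]; norm_num)
  have hv0 : v ≠ 0 := by
    rintro rfl
    exact hv (QuadraticMap.map_zero Q)
  obtain ⟨U, hU, hU0⟩ := exists_compl (Q := Q) (v := v) h2
  set A : Subgroup ((Fin 8 → F) ≃ₗ[F] (Fin 8 → F)) := R.map (glEquiv (Fin 8) F).toMonoidHom with hA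
  have hAE : A ≤ E Q := by
    rw [← H883.Bridge.map_omegaGL_eq_E hG]
    exact Subgroup.map_mono hR
  have hAO : A ≤ O Q := hAE.trans (E_le_O (Q := Q))
  have hAv : ∀ a ∈ A, a v = v := by
    rintro _ ⟨g, hg, rfl⟩
    have h1 := H884.OmegaGL.mem_subspaceStabilizer.1 (hRv hg) v (Submodule.mem_span_singleton_self v)
    obtain ⟨c, hc⟩ := Submodule.mem_span_singleton.1 h1
    have h3 : Q (glEquiv (Fin 8) F g v) = Q v := by
      have h4 := hAO (Subgroup.mem_map_of_mem _ hg)
      rw [mem_O] at h4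
      exact h4 v
    change glEquiv (Fin 8) F g v = v
    have hc' : c • v = glEquiv (Fin 8) F g v := hc
    rw [← hc', QuadraticMap.map_smul, smul_eq_mul] at h3
    have h4 : c * c = 1 := mul_right_cancel₀ hv (by rw [h3, one_mul])
    have h5 : c = 1 := by
      rcases mul_self_eq_one_iff.1 h4 with h5 | h5
      · exact h5
      · rw [h5, neg_eq_iff_add_eq_zero, ← two_mul, h2, zero_mul]
    rw [← hc', h5, one_smul]
  have hfinE : Finite ((Fin 8 → F) ≃ₗ[F] (Fin 8 → F)) :=
    Finite.of_injective (fun e : (Fin 8 → F) ≃ₗ[F] (Fin 8 → F) => (e : (Fin 8 → F) → (Fin 8 → F))) DFunLike.coe_injective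
  have hcard : Nat.card (bar A U v hAv) = Nat.card R := by
    rw [card_bar hAO hAv hU hU0 (fun a ha hp => H212.Rg.faithful_even h2 hQ (by rw [hfin]; norm_num) hv (hAE ha)
      (hAv a ha) hp), hA]
    exact Subgroup.card_map_of_injective (glEquiv (Fin 8) F).injective
  have hU6 : finrank F U = 6 := by
    have := finrank_compl hQ hv0 hU hU0
    rw [hfin] at this
    omega
  rw [← hcard]
  refine fac_isom (nondeg_compl hQ hU hU0) hU6 (by omega) h2 hF fun x => ⟨fun hx => bar_polar h2 hAO hU hx, fun hx => ?_⟩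
  exact H96.Rg.six_even (nondeg_compl hQ hU hU0) hU6 hf hF hs ht (fun y hy => bar_polar h2 hAO hU hy)
    (by rw [hcard]; exact hsR) (by rw [hcard]; exact htR) (by rw [hcard]; exact hlt) hx

end Cfsg.Agent.H857.Rs
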